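import Groth.Agent.GeomComp.SectionLocal
import Groth.Agent.GrpschAbsch.FibreFlat
import Groth.Agent.AlgSp2.FppfProps
import Groth.Agent.S4976
import Mathlib.CategoryTheory.Monoidal.Cartesian.Over

/-!
Basic facts for finite etale covers of abelian schemes: lifts along separated etale morphisms are unique on
geometrically connected families with a section, and the union of the components through a section of a proper flat
geometrically reduced family is clopen.
-/

set_option autoImplicit false
set_option linter.style.haveILetI false
set_option maxHeartbeats 1000000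
universe u

open CategoryTheory CategoryTheory.Limits MonoidalCategory CartesianMonoidalCategory AlgebraicGeometry

namespace Groth.EtaleCoverGrp

/-- An etale morphism followed by a geometrically reduced one is geometrically reduced. -/
theorem geometricallyReduced_etale_comp {Z X S : Scheme.{u}} (g : Z ⟶ X) [Etale g] (f : X ⟶ S)
    [GeometricallyReduced f] : GeometricallyReduced (g ≫ f) := by
  rw [GeometricallyReduced.eq_geometrically]
  intro K _ a P p q H
  let l : P ⟶ pullback f a := pullback.lift (p ≫ g) q (by rw [Category.assoc]; exact H.w)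
  have sq : IsPullback p l g (pullback.fst f a) :=
    IsPullback.of_bot (by rw [pullback.lift_snd]; exact H) (pullback.lift_fst _ _ _).symm (IsPullback.of_hasPullback f a)
  haveI : Etale l := MorphismProperty.of_isPullback (P := @Etale) sq inferInstance
  have hf : geometrically (IsReduced ·) f := by
    rw [← GeometricallyReduced.eq_geometrically]; infer_instance
  haveI : IsReduced (pullback f a) := hf a _ _ (IsPullback.of_hasPullback f a)
  exact Groth.AlgSp2.isReduced_of_smooth_morphism l

/-- The union of the fibrewise components through a section of a proper flat geometrically reduced morphism is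
clopen. -/
theorem isClopen_sectionComponents {X S : Scheme.{u}} (f : X ⟶ S) [IsProper f] [Flat f]
    [LocallyOfFinitePresentation f] [GeometricallyReduced f] (σ : S ⟶ X) (hσ : σ ≫ f = 𝟙 S) :
    IsClopen (MoreMor.sectionComponents f σ) := by
  have hfσ : ∀ y : S, f.base (σ.base y) = y := fun y => by
    rw [← Scheme.Hom.comp_apply, hσ]
    rfl
  let C := MoreMor.sectionComponents f σ
  refine ⟨?_, ?_⟩
  · rw [← isOpen_compl_iff]
    refine isOpen_iff_forall_mem_open.mpr fun x hx => ?_
    let y := f.base x
    let T := (f.fiberι y).base ⁻¹' connectedComponentIn (f.base ⁻¹' {y}) (σ.base y)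
    have hT : IsClopen T := Groth.EGA43Topo.ProperConn.isClopen_preimage_connectedComponentIn f (hfσ y)
    haveI : IsClosedImmersion (Scheme.Opens.ι (⟨T, hT.2⟩ : (f.fiber y).Opens)) :=
      .of_isPreimmersion _ (by rw [Scheme.Opens.range_ι]; exact hT.1)
    haveI : IsProper (f.fiberToSpecResidueField y) := inferInstanceAs (IsProper (pullback.snd f (S.fromSpecResidueField y)))
    obtain ⟨U, hyU, hcl, -⟩ := Groth.Agent.S4976.result f σ hσ y hT.2
      (inferInstanceAs (IsProper (Scheme.Opens.ι (⟨T, hT.2⟩ : (f.fiber y).Opens) ≫ f.fiberToSpecResidueField y)))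
    refine ⟨(f ⁻¹ᵁ U).ι.base '' ((f ⁻¹ᵁ U).ι.base ⁻¹' C)ᶜ, ?_,
      (f ⁻¹ᵁ U).ι.isOpenEmbedding.isOpenMap _ hcl.isOpen_compl, ⟨x, hyU⟩, hx, rfl⟩
    rintro _ ⟨z, hz, rfl⟩
    exact hz
  · refine isOpen_iff_mem_nhds.mpr fun x hx => mem_interior_iff_mem_nhds.mp ?_
    obtain ⟨V₀, hV₀, hy₀, -⟩ := exists_isAffineOpen_mem_and_subset (U := ⊤) (Set.mem_univ (f.base x))
    exact Groth.GeomComp.component_subset_interior_local f σ hσ (f.base x) V₀ hy₀ hV₀
      (f.isQuasiSeparated_preimage hV₀.isQuasiSeparated) (fun c _ => @Groth.GeomComp.isGeomReducedAt_of_geometricallyReduced _ _ _ _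
        (inferInstanceAs (GeometricallyReduced (f.fiberToSpecResidueField (f.base x)))) c) hx

variable {S : Scheme.{u}}

/-- Two lifts along a separated etale morphism which agree on a section of a geometrically connected family agree. -/
theorem eq_of_comp_eq {W Y X : Over S} [GeometricallyConnected W.hom] (f : Y ⟶ X) [Etale f.left]
    [IsSeparated f.left] (a b : W ⟶ Y) (e : 𝟙_ (Over S) ⟶ W) (hf : a ≫ f = b ≫ f) (he : e ≫ a = e ≫ b) :
    a = b := by
  have hfl : a.left ≫ f.left = b.left ≫ f.left := congrArg CommaMorphism.left hf
  let q : W.left ⟶ pullback f.left f.left := pullback.lift a.left b.left hfl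
  let Δ := pullback.diagonal f.left
  haveI : IsOpenImmersion Δ := inferInstance
  haveI : IsClosedImmersion Δ := inferInstance
  let j := pullback.fst q Δ
  haveI : IsOpenImmersion j := inferInstance
  haveI : IsClosedImmersion j := inferInstance
  have heW : e.left ≫ W.hom = 𝟙 S := Over.w e
  have heab : e.left ≫ a.left = e.left ≫ b.left := congrArg CommaMorphism.left he
  have hsec : ∀ s, e.left s ∈ Set.range j := fun s => by
    have hl : e.left ≫ q = (e.left ≫ a.left) ≫ Δ := by
      apply pullback.hom_ext
      · dsimp only [q, Δ]
        rw [Category.assoc, pullback.lift_fst, Category.assoc, pullback.diagonal_fst, Category.comp_id]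
      · dsimp only [q, Δ]
        rw [Category.assoc, pullback.lift_snd, Category.assoc, pullback.diagonal_snd, Category.comp_id, heab]
    refine ⟨(pullback.lift e.left (e.left ≫ a.left) hl) s, ?_⟩
    rw [← Scheme.Hom.comp_apply, pullback.lift_fst]
  haveI : Surjective j := ⟨fun w => by
    let s := W.hom w
    have hes : e.left s ∈ W.hom ⁻¹' {s} := by
      show W.hom (e.left s) = s
      rw [← Scheme.Hom.comp_apply, heW]
      rfl
    have hsub := (W.hom.isConnected_preimage_singleton s).isPreconnected.subset_isClopen
      ⟨j.isClosedEmbedding.isClosed_range, j.isOpenEmbedding.isOpen_range⟩ ⟨_, hes, hsec s⟩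
    exact hsub rfl⟩
  haveI : IsIso j := (isIso_iff_isOpenImmersion_and_surjective j).2 ⟨inferInstance, inferInstance⟩
  refine Over.OverMorphism.ext ((cancel_epi j).1 ?_)
  have h1 := congrArg (· ≫ pullback.fst f.left f.left) (pullback.condition (f := q) (g := Δ))
  have h2 := congrArg (· ≫ pullback.snd f.left f.left) (pullback.condition (f := q) (g := Δ))
  simp only [Category.assoc, q, Δ, pullback.lift_fst, pullback.lift_snd, pullback.diagonal_fst,
    pullback.diagonal_snd, Category.comp_id] at h1 h2
  exact h1.trans h2.symm

end Groth.EtaleCoverGrp
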