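import Mathlib.AlgebraicGeometry.Morphisms.FlatRank
import Mathlib.AlgebraicGeometry.Geometrically.Connected
import Mathlib.AlgebraicGeometry.Morphisms.Etale

/-!
A finite etale morphism onto a geometrically connected family is an isomorphism once it has rank one along a section.
-/

set_option autoImplicit false
set_option linter.style.haveILetI false
universe u

open CategoryTheory CategoryTheory.Limits AlgebraicGeometry

namespace Groth.EtaleCoverGrp

theorem isIso_of_isIso_pullback {P Q S : Scheme.{u}} (p : P ⟶ Q) [IsFinite p] [Etale p] (h : Q ⟶ S)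
    [GeometricallyConnected h] {Q' P' : Scheme.{u}} (c : Q' ⟶ Q) (p' : P' ⟶ Q') (c' : P' ⟶ P)
    (sq : IsPullback c' p' p c) [IsIso p'] (hc : ∀ s : S, ∃ t, h (c t) = s) : IsIso p := by
  rw [Scheme.Hom.isIso_iff_finrank_eq]
  funext y
  obtain ⟨t, ht⟩ := hc (h y)
  have h1 : p.finrank (c t) = 1 := by
    rw [← Scheme.Hom.finrank_of_isPullback c' p' p c sq t]
    exact congrFun (Scheme.Hom.finrank_eq_one_of_isIso p') t
  rw [(Scheme.Hom.isLocallyConstant_finrank p).apply_eq_of_isPreconnected
    (h.isConnected_preimage_singleton (h y)).isPreconnected (show y ∈ h ⁻¹' {h y} from rfl)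
    (show c t ∈ h ⁻¹' {h y} from ht)]
  exact h1

end Groth.EtaleCoverGrp
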