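import Groth.Agent.EtaleCoverGrp.Main

/-!
The group axioms for the lifted multiplication and uniqueness of the group law.
-/

set_option autoImplicit false
set_option linter.style.haveILetI false
set_option maxHeartbeats 1000000
universe u

open CategoryTheory CategoryTheory.Limits MonoidalCategory CartesianMonoidalCategory MonObj GrpObj AlgebraicGeometry

namespace Groth.EtaleCoverGrp

theorem grpObj_ext {C : Type*} [Category C] [CartesianMonoidalCategory C] {Y : C} (h h' : GrpObj Y)
    (h1 : h.one = h'.one) (h2 : h.mul = h'.mul) : h = h' := by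
  obtain ⟨inv, l, r⟩ := h
  rename_i M
  obtain ⟨inv', l', r'⟩ := h'
  rename_i M'
  obtain rfl : M = M' := MonObj.ext M M' h2
  congr
  have hl : (inv : Y ⟶ Y) * 𝟙 Y = 1 := by rw [Hom.mul_def, Hom.one_def]; exact l
  have hr : 𝟙 Y * (inv' : Y ⟶ Y) = 1 := by rw [Hom.mul_def, Hom.one_def]; exact r'
  exact left_inv_eq_right_inv hl hr

variable {S : Scheme.{u}} (X : Over S) [GrpObj X] [IsProper X.hom] [Flat X.hom] [LocallyOfFinitePresentation X.hom]
  [GeometricallyReduced X.hom] [GeometricallyConnected X.hom]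
  (Y : Over S) [GeometricallyConnected Y.hom] (f : Y ⟶ X) [IsFinite f.left] [Etale f.left]
  (eY : 𝟙_ (Over S) ⟶ Y) (he : eY ≫ f = η[X])

include he in
/-- The unique group law. -/
theorem existsUnique_grpObj : ∃! h : GrpObj Y, h.one = eY ∧ h.mul ≫ f = (f ⊗ₘ f) ≫ μ[X] := by
  obtain ⟨_, _, _, _⟩ := props X Y f
  haveI := geometricallyConnected_tensor Y
  haveI : GeometricallyConnected ((Y ⊗ Y) ⊗ Y).hom := by
    haveI : GeometricallyConnected (pullback.fst (Y ⊗ Y).hom Y.hom) := inferInstance
    haveI : UniversallyOpen (pullback.fst (Y ⊗ Y).hom Y.hom) := inferInstance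
    haveI : UniversallyOpen (Y ⊗ Y).hom := inferInstanceAs (UniversallyOpen (pullback.fst Y.hom Y.hom ≫ Y.hom))
    exact GeometricallyConnected.comp (pullback.fst (Y ⊗ Y).hom Y.hom) (Y ⊗ Y).hom
  obtain ⟨m, hm, hk⟩ := exists_mul X Y f eY he
  have hm' : ∀ {T : Over S} (a b : T ⟶ Y), (lift a b ≫ m) ≫ f = (a ≫ f) * (b ≫ f) := fun a b => by
    rw [Category.assoc, hm, lift_mul]
  have hone : ∀ {T : Over S}, (toUnit T ≫ eY) ≫ f = 1 := fun {T} => comp_one_f X Y f eY he
  have htu : ∀ {T T' : Over S} (a : T ⟶ T'), a ≫ toUnit T' ≫ eY = toUnit T ≫ eY := fun a => by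
    rw [← Category.assoc, comp_toUnit]
  have hl : ∀ {T : Over S} (a : T ⟶ Y), lift (toUnit T ≫ eY) a ≫ m = a := fun {T} a => by
    have := congrArg (a ≫ ·) hk
    simpa only [comp_lift_assoc, htu, Category.comp_id] using this
  have hl' : ∀ {T : Over S} (a : T ⟶ Y), lift a (toUnit T ≫ eY) ≫ m = a := by
    have h : lift (𝟙 Y) (toUnit Y ≫ eY) ≫ m = 𝟙 Y := by
      refine eq_of_comp_eq f _ _ eY ?_ ?_
      · rw [hm', hone, _root_.mul_one]
      · rw [← Category.assoc, comp_lift, Category.comp_id, htu]
        have e1 : toUnit (𝟙_ (Over S)) ≫ eY = eY := by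
          rw [toUnit_unique (toUnit _) (𝟙 _), Category.id_comp]
        rw [e1]
        simpa only [e1] using hl eY
    intro T a
    have := congrArg (a ≫ ·) h
    simpa only [comp_lift_assoc, htu, Category.comp_id] using this
  let M : MonObj Y :=
    { one := eY
      mul := m
      one_mul := by
        have h : eY ▷ Y = lift (toUnit _ ≫ eY) (snd _ Y) := by
          apply CartesianMonoidalCategory.hom_ext
          · rw [whiskerRight_fst, lift_fst, toUnit_unique (toUnit _) (fst _ _)]
          · rw [whiskerRight_snd, lift_snd]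
        rw [h, hl, leftUnitor_hom]
      mul_one := by
        have h : Y ◁ eY = lift (fst Y _) (toUnit _ ≫ eY) := by
          apply CartesianMonoidalCategory.hom_ext
          · rw [whiskerLeft_fst, lift_fst]
          · rw [whiskerLeft_snd, lift_snd, toUnit_unique (toUnit _) (snd _ _)]
        rw [h, hl', rightUnitor_hom]
      mul_assoc := by
        let E : 𝟙_ (Over S) ⟶ (Y ⊗ Y) ⊗ Y := lift (lift eY eY) eY
        have h1 : m ▷ Y = lift (fst _ Y ≫ m) (snd _ Y) := by
          apply CartesianMonoidalCategory.hom_ext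
          · rw [whiskerRight_fst, lift_fst]
          · rw [whiskerRight_snd, lift_snd]
        have h2 : (α_ Y Y Y).hom ≫ Y ◁ m =
            lift (fst _ Y ≫ fst Y Y) (lift (fst _ Y ≫ snd Y Y) (snd _ Y) ≫ m) := by
          apply CartesianMonoidalCategory.hom_ext
          · rw [Category.assoc, whiskerLeft_fst, lift_fst, associator_hom_fst]
          · rw [Category.assoc, whiskerLeft_snd, lift_snd, ← Category.assoc]
            congr 1
            apply CartesianMonoidalCategory.hom_ext
            · rw [Category.assoc, associator_hom_snd_fst, lift_fst]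
            · rw [Category.assoc, associator_hom_snd_snd, lift_snd]
        rw [h1, ← Category.assoc, h2]
        have hmf : ∀ {T : Over S} (c : T ⟶ Y ⊗ Y), (c ≫ m) ≫ f = (c ≫ fst Y Y ≫ f) * (c ≫ snd Y Y ≫ f) :=
          fun c => by
            have := hm' (c ≫ fst Y Y) (c ≫ snd Y Y)
            rwa [← comp_lift, lift_fst_snd, Category.comp_id, Category.assoc c (fst Y Y), Category.assoc c (snd Y Y)]
              at this
        refine eq_of_comp_eq f _ _ E ?_ ?_
        · rw [hm', hm', hm', hmf]
          simp only [Category.assoc]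
          exact _root_.mul_assoc _ _ _
        · have hee : lift eY eY ≫ m = eY := by
            have := hl eY
            rwa [toUnit_unique (toUnit _) (𝟙 _), Category.id_comp] at this
          simp only [E, ← Category.assoc, comp_lift, lift_fst, lift_snd]
          simp only [lift_fst, lift_snd, hee] }
  let shear : Y ⊗ Y ⟶ Y ⊗ Y := lift (fst Y Y) m
  let shX : X ⊗ X ⟶ X ⊗ X := lift (fst X X) (fst X X * snd X X)
  haveI : IsIso shX := by
    refine ⟨lift (fst X X) ((fst X X)⁻¹ * snd X X), ?_, ?_⟩ <;>
    · apply CartesianMonoidalCategory.hom_ext <;>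
        simp [shX, MonObj.comp_mul, GrpObj.comp_inv]
  have hsh : shear ≫ (f ⊗ₘ f) = (f ⊗ₘ f) ≫ shX := by
    apply CartesianMonoidalCategory.hom_ext
    · rw [Category.assoc, tensorHom_fst, ← Category.assoc, lift_fst, Category.assoc, lift_fst, tensorHom_fst]
    · rw [Category.assoc, tensorHom_snd, ← Category.assoc, lift_snd, hm, Category.assoc, lift_snd, Hom.mul_def,
        lift_fst_snd, Category.id_comp]
  haveI : IsFinite (f ⊗ₘ f).left := tensorHom_prop @IsFinite f f inferInstance inferInstance
  haveI : Etale (f ⊗ₘ f).left := tensorHom_prop @Etale f f inferInstance inferInstance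
  haveI : IsIso shX.left := inferInstanceAs (IsIso ((Over.forget S).map shX))
  haveI : IsFinite (shear.left ≫ (f ⊗ₘ f).left) := by rw [← Over.comp_left, hsh, Over.comp_left]; infer_instance
  haveI : Etale (shear.left ≫ (f ⊗ₘ f).left) := by rw [← Over.comp_left, hsh, Over.comp_left]; infer_instance
  haveI : IsFinite shear.left := IsFinite.of_comp shear.left (f ⊗ₘ f).left
  haveI : Etale shear.left := Etale.of_comp shear.left (f ⊗ₘ f).left
  let c : 𝟙_ (Over S) ⟶ Y ⊗ Y := lift eY eY
  have hce : toUnit (𝟙_ (Over S)) ≫ eY = eY := by rw [toUnit_unique (toUnit _) (𝟙 _), Category.id_comp]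
  have hcs : c ≫ shear = c := by
    have := hl eY
    rw [hce] at this
    simp only [c, shear, comp_lift, lift_fst, this]
  haveI : IsIso shear.left := by
    have sq : IsPullback c (𝟙 (𝟙_ (Over S))) shear c := by
      refine ⟨⟨by rw [hcs, Category.id_comp]⟩, ⟨PullbackCone.IsLimit.mk _ (fun s => toUnit _) (fun s => ?_)
        (fun s => toUnit_unique _ _) fun s n _ _ => toUnit_unique _ _⟩⟩
      have h := s.condition
      have ha : s.fst ≫ fst Y Y = toUnit _ ≫ eY := by
        have := congrArg (· ≫ fst Y Y) h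
        simp only [Category.assoc, shear, c, lift_fst] at this
        rw [this, toUnit_unique s.snd (toUnit _)]
      have hb : s.fst ≫ snd Y Y = toUnit _ ≫ eY := by
        have := congrArg (· ≫ snd Y Y) h
        simp only [Category.assoc, shear, c, lift_snd] at this
        rw [show s.fst = lift (s.fst ≫ fst Y Y) (s.fst ≫ snd Y Y) by rw [← comp_lift, lift_fst_snd, Category.comp_id],
          ha, hl] at this
        rw [this, toUnit_unique s.snd (toUnit _)]
      have hs : s.fst = lift (s.fst ≫ fst Y Y) (s.fst ≫ snd Y Y) := by rw [← comp_lift, lift_fst_snd, Category.comp_id]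
      rw [hs, ha, hb]
      simp only [c, comp_lift]
    exact isIso_of_isIso_pullback shear.left (Y ⊗ Y).hom c.left (CommaMorphism.left (𝟙 (𝟙_ (Over S)))) c.left
      (sq.map (Over.forget S)) fun s => ⟨s, by rw [← Scheme.Hom.comp_apply, Over.w c]; rfl⟩
  haveI : IsIso ((Over.forget S).map shear) := ‹IsIso shear.left›
  haveI : IsIso shear := isIso_of_reflects_iso shear (Over.forget S)
  let k₂ : Y ⟶ Y ⊗ Y := lift (𝟙 Y) (toUnit Y ≫ eY)
  let i : Y ⟶ Y := k₂ ≫ inv shear ≫ snd Y Y
  letI := M
  have hμ : μ[Y] = m := rfl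
  have hη : η[Y] = eY := rfl
  have hr : 𝟙 Y * i = 1 := by
    have hfst : k₂ ≫ inv shear ≫ fst Y Y = 𝟙 Y := by
      rw [show inv shear ≫ fst Y Y = fst Y Y by rw [IsIso.inv_comp_eq]; exact (lift_fst _ _).symm]
      exact lift_fst _ _
    have h2 : lift (𝟙 Y) i = k₂ ≫ inv shear := by
      apply CartesianMonoidalCategory.hom_ext
      · rw [lift_fst, Category.assoc, hfst]
      · rw [lift_snd, Category.assoc]
    rw [Hom.mul_def, Hom.one_def, h2, hμ, hη, Category.assoc,
      show inv shear ≫ m = snd Y Y by rw [IsIso.inv_comp_eq]; exact (lift_snd _ _).symm, lift_snd]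
  have hr' : i * (i ≫ i) = 1 := by
    have := congrArg (i ≫ ·) hr
    simpa only [MonObj.comp_mul, MonObj.comp_one, Category.comp_id] using this
  have hli : i * 𝟙 Y = 1 := by
    have : 𝟙 Y = i ≫ i := left_inv_eq_right_inv hr hr'
    conv_lhs => rw [this]
    exact hr'
  let G : GrpObj Y :=
    { toMonObj := M
      inv := i
      left_inv := by rw [Hom.mul_def, Hom.one_def] at hli; exact hli
      right_inv := by rw [Hom.mul_def, Hom.one_def] at hr; exact hr }
  refine ⟨G, ⟨rfl, hm⟩, fun h ⟨h1, h2⟩ => grpObj_ext h G h1 ?_⟩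
  refine eq_of_comp_eq f h.mul m c (h2.trans hm.symm) ?_
  have e1 := h.one_mul
  rw [h1] at e1
  have hlift : lift (𝟙 (𝟙_ (Over S))) eY ≫ eY ▷ Y = c := by
    apply CartesianMonoidalCategory.hom_ext
    · rw [Category.assoc, whiskerRight_fst, lift_fst_assoc, Category.id_comp, lift_fst]
    · rw [Category.assoc, whiskerRight_snd, lift_snd, lift_snd]
  have := congrArg (lift (𝟙 (𝟙_ (Over S))) eY ≫ ·) e1
  simp only [leftUnitor_hom, lift_snd, ← Category.assoc, hlift] at this
  rw [this]
  have h3 := hl eY
  rw [hce] at h3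
  exact h3.symm

end Groth.EtaleCoverGrp
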