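import Groth.Agent.EtaleCoverGrp.Basic
import Groth.Agent.EtaleCoverGrp.Finrank
import Mathlib.CategoryTheory.Monoidal.Cartesian.Grp
import Mathlib.CategoryTheory.MorphismProperty.Limits

/-!
A finite etale cover with geometrically connected fibres of an abelian scheme, with a chosen point over the unit
section, carries a unique group law for which the covering map is a homomorphism.
-/

set_option autoImplicit false
set_option linter.style.haveILetI false
set_option maxHeartbeats 1000000
universe u

open CategoryTheory CategoryTheory.Limits MonoidalCategory CartesianMonoidalCategory MonObj GrpObj AlgebraicGeometry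

namespace Groth.EtaleCoverGrp

variable {S : Scheme.{u}}

theorem tensorHom_prop (P : MorphismProperty Scheme.{u}) [P.IsStableUnderBaseChange] [P.IsMultiplicative]
    {A B C D : Over S} (a : A ⟶ B) (c : C ⟶ D) (ha : P a.left) (hc : P c.left) : P (a ⊗ₘ c).left := by
  rw [Over.tensorHom_left]
  exact MorphismProperty.pullbackMap ha hc (Over.w a).symm (Over.w c).symm

variable (X : Over S) [GrpObj X] [IsProper X.hom] [Flat X.hom] [LocallyOfFinitePresentation X.hom]
  [GeometricallyReduced X.hom] [GeometricallyConnected X.hom]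
  (Y : Over S) [GeometricallyConnected Y.hom] (f : Y ⟶ X) [IsFinite f.left] [Etale f.left]
  (eY : 𝟙_ (Over S) ⟶ Y) (he : eY ≫ f = η[X])

include f in
omit [GrpObj X] [GeometricallyConnected X.hom] [GeometricallyConnected Y.hom] in
theorem props : IsProper Y.hom ∧ Flat Y.hom ∧ LocallyOfFinitePresentation Y.hom ∧ GeometricallyReduced Y.hom := by
  rw [← Over.w f]
  exact ⟨inferInstance, inferInstance, inferInstance, geometricallyReduced_etale_comp f.left X.hom⟩

omit [IsProper X.hom] [Flat X.hom] [LocallyOfFinitePresentation X.hom]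
  [GeometricallyReduced X.hom] [GeometricallyConnected X.hom] [GeometricallyConnected Y.hom] [IsFinite f.left]
  [Etale f.left] in
include he in
theorem comp_one_f {T : Over S} : (toUnit T ≫ eY) ≫ f = 1 := by
  rw [Category.assoc, he, Hom.one_def]

omit [IsProper X.hom] [Flat X.hom] [LocallyOfFinitePresentation X.hom]
  [GeometricallyReduced X.hom] [GeometricallyConnected X.hom] [GeometricallyConnected Y.hom] [IsFinite f.left]
  [Etale f.left] in
theorem lift_mul {T : Over S} (a b : T ⟶ Y) : lift a b ≫ (f ⊗ₘ f) ≫ μ[X] = (a ≫ f) * (b ≫ f) := by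
  rw [← Category.assoc, lift_map, Hom.mul_def]

theorem geometricallyConnected_tensor [IsProper Y.hom] [Flat Y.hom] [LocallyOfFinitePresentation Y.hom] :
    GeometricallyConnected (Y ⊗ Y).hom := by
  haveI : GeometricallyConnected (pullback.fst Y.hom Y.hom) := inferInstance
  haveI : UniversallyOpen (pullback.fst Y.hom Y.hom) := inferInstance
  exact GeometricallyConnected.comp (pullback.fst Y.hom Y.hom) Y.hom

include he in
/-- The lift of the group law. -/
theorem exists_mul : ∃ m : Y ⊗ Y ⟶ Y, m ≫ f = (f ⊗ₘ f) ≫ μ[X] ∧ lift (toUnit Y ≫ eY) (𝟙 Y) ≫ m = 𝟙 Y := by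
  obtain ⟨_, _, _, _⟩ := props X Y f
  let M : (Y ⊗ Y).left ⟶ X.left := ((f ⊗ₘ f) ≫ μ[X]).left
  let pr : pullback f.left M ⟶ (Y ⊗ Y).left := pullback.snd f.left M
  let k : Y ⟶ Y ⊗ Y := lift (toUnit Y ≫ eY) (𝟙 Y)
  let k₂ : Y ⟶ Y ⊗ Y := lift (𝟙 Y) (toUnit Y ≫ eY)
  have hk : k.left ≫ M = f.left := by
    rw [← Over.comp_left, lift_mul, comp_one_f X Y f eY he, _root_.one_mul, Category.id_comp]
  have hk₂ : k₂.left ≫ M = f.left := by
    rw [← Over.comp_left, lift_mul, comp_one_f X Y f eY he, _root_.mul_one, Category.id_comp]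
  let δ : Y.left ⟶ pullback f.left M := pullback.lift (𝟙 _) k.left (by rw [hk, Category.id_comp])
  let σ : Y.left ⟶ pullback f.left M := pullback.lift (𝟙 _) k₂.left (by rw [hk₂, Category.id_comp])
  let ξ : (Y ⊗ Y).left ⟶ Y.left := pullback.fst Y.hom Y.hom
  haveI : IsProper ξ := inferInstanceAs (IsProper (pullback.fst Y.hom Y.hom))
  haveI : Flat ξ := inferInstanceAs (Flat (pullback.fst Y.hom Y.hom))
  haveI : LocallyOfFinitePresentation ξ := inferInstanceAs (LocallyOfFinitePresentation (pullback.fst Y.hom Y.hom))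
  haveI : GeometricallyReduced ξ := inferInstanceAs (GeometricallyReduced (pullback.fst Y.hom Y.hom))
  let q : pullback f.left M ⟶ Y.left := pr ≫ ξ
  haveI : GeometricallyReduced q := geometricallyReduced_etale_comp pr ξ
  have hσ : σ ≫ q = 𝟙 _ := by
    show σ ≫ pr ≫ ξ = _
    rw [← Category.assoc, pullback.lift_snd]
    exact congrArg CommaMorphism.left (lift_fst (𝟙 Y) (toUnit Y ≫ eY))
  have hC := isClopen_sectionComponents q σ hσ
  let U : (pullback f.left M).Opens := ⟨MoreMor.sectionComponents q σ, hC.2⟩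
  haveI : IsClosedImmersion U.ι := .of_isPreimmersion _ (by rw [Scheme.Opens.range_ι]; exact hC.1)
  let p : U.toScheme ⟶ (Y ⊗ Y).left := U.ι ≫ pr
  haveI : IsFinite p := inferInstance
  haveI : Etale p := inferInstance
  have heY : eY.left ≫ Y.hom = 𝟙 S := Over.w eY
  have hkfst : k.left ≫ ξ = Y.hom ≫ eY.left := by
    show k.left ≫ (fst Y Y).left = _
    rw [← Over.comp_left, lift_fst]
    rfl
  have hδpr : δ ≫ pr = k.left := pullback.lift_snd _ _ _
  have hσe : ∀ s, σ (eY.left s) = δ (eY.left s) := by
    have h : eY.left ≫ σ = eY.left ≫ δ := by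
      apply pullback.hom_ext
      · simp only [σ, δ, Category.assoc, pullback.lift_fst]
      · simp only [σ, δ, Category.assoc, pullback.lift_snd, ← Over.comp_left]
        refine congrArg CommaMorphism.left ?_
        simp only [k, k₂, comp_lift, Category.comp_id, ← Category.assoc, toUnit_unique (eY ≫ toUnit Y) (𝟙 _),
          Category.id_comp]
    intro s
    rw [← Scheme.Hom.comp_apply, h, Scheme.Hom.comp_apply]
  -- the component over a point of the unit section
  let Fs : S → Set ↥(pullback f.left M) := fun s => q ⁻¹' {eY.left s}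
  have hδmem : ∀ y, δ y ∈ U := by
    intro y
    let s := Y.hom y
    have hqδ : ∀ y', Y.hom y' = s → q (δ y') = eY.left s := fun y' hy' => by
      show (δ ≫ pr ≫ ξ) y' = _
      rw [← Category.assoc, hδpr, hkfst, Scheme.Hom.comp_apply, hy']
    show δ y ∈ connectedComponentIn (q ⁻¹' {q (δ y)}) (σ (q (δ y)))
    rw [hqδ y rfl, hσe]
    refine ((Y.hom.isConnected_preimage_singleton s).isPreconnected.image δ δ.continuous.continuousOn
      ).subset_connectedComponentIn ⟨eY.left s, ?_, rfl⟩ ?_ ⟨y, rfl, rfl⟩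
    · show Y.hom (eY.left s) = s
      rw [← Scheme.Hom.comp_apply, heY]; rfl
    · rintro _ ⟨y', hy', rfl⟩
      exact hqδ y' hy'
  let δ' : Y.left ⟶ U.toScheme := IsOpenImmersion.lift U.ι δ (by
    rw [Scheme.Opens.range_ι]
    rintro _ ⟨y, rfl⟩
    exact hδmem y)
  have hδ' : δ' ≫ U.ι = δ := IsOpenImmersion.lift_fac _ _ _
  have hδ'p : δ' ≫ p = k.left := by rw [← Category.assoc, hδ', hδpr]
  let P := pullback p k.left
  let p' : P ⟶ Y.left := pullback.snd p k.left
  let c' : P ⟶ U.toScheme := pullback.fst p k.left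
  let d : Y.left ⟶ P := pullback.lift δ' (𝟙 _) (by rw [hδ'p, Category.id_comp])
  have hdp : d ≫ p' = 𝟙 _ := pullback.lift_snd _ _ _
  have hksec : k.left ≫ (snd Y Y).left = 𝟙 _ := by rw [← Over.comp_left, lift_snd]; rfl
  haveI : IsClosedImmersion k.left := by
    haveI : IsSeparated (snd Y Y).left := inferInstanceAs (IsSeparated (pullback.snd Y.hom Y.hom))
    haveI : IsClosedImmersion (k.left ≫ (snd Y Y).left) := by rw [hksec]; infer_instance
    exact IsClosedImmersion.of_comp k.left (snd Y Y).left
  haveI : IsClosedImmersion c' := inferInstanceAs (IsClosedImmersion (pullback.fst p k.left))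
  haveI : Etale p' := inferInstanceAs (Etale (pullback.snd p k.left))
  haveI : Etale (d ≫ p') := by rw [hdp]; infer_instance
  haveI : Etale d := Etale.of_comp d p'
  haveI : IsClosedImmersion (d ≫ p') := by rw [hdp]; infer_instance
  haveI : IsSeparated p' := inferInstanceAs (IsSeparated (pullback.snd p k.left))
  haveI : IsClosedImmersion d := IsClosedImmersion.of_comp d p'
  haveI : Surjective d := ⟨fun w => by
    let s := Y.hom (p' w)
    let Ps : Set P := (p' ≫ Y.hom) ⁻¹' {s}
    have hcond : ∀ w', q (U.ι (c' w')) = eY.left ((p' ≫ Y.hom) w') := fun w' => by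
      show ((c' ≫ p) ≫ ξ) w' = _
      rw [pullback.condition, Category.assoc, hkfst]
      rfl
    have himg : (fun w' => U.ι (c' w')) '' Ps = connectedComponentIn (q ⁻¹' {eY.left s}) (σ (eY.left s)) := by
      apply Set.Subset.antisymm
      · rintro _ ⟨w', hw', rfl⟩
        have hm : U.ι (c' w') ∈ connectedComponentIn (q ⁻¹' {q (U.ι (c' w'))}) (σ (q (U.ι (c' w')))) := (c' w').2
        rwa [hcond, show (p' ≫ Y.hom) w' = s from hw'] at hm
      · intro z hz
        have hzq : q z = eY.left s := connectedComponentIn_subset (q ⁻¹' {eY.left s}) _ hz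
        have hzU : z ∈ U := by
          show z ∈ connectedComponentIn (q ⁻¹' {q z}) (σ (q z))
          rw [hzq]; exact hz
        have hsq : IsPullback k.left Y.hom ξ eY.left := by
          refine IsPullback.of_right ?_ hkfst (IsPullback.of_hasPullback Y.hom Y.hom).flip
          rw [show k.left ≫ pullback.snd Y.hom Y.hom = 𝟙 Y.left from hksec, heY]
          exact IsPullback.of_horiz_isIso ⟨by simp⟩
        obtain ⟨y', hy'1, hy'2⟩ := Scheme.exists_preimage_of_isPullback hsq (pr z) s hzq
        obtain ⟨w', hw'1, hw'2'⟩ := Scheme.exists_preimage_of_isPullback (IsPullback.of_hasPullback p k.left)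
          ⟨z, hzU⟩ y' hy'1.symm
        have hw'2 : (p' ≫ Y.hom) w' = s := by
          rw [Scheme.Hom.comp_apply, show p' w' = y' from hw'2', hy'2]
        exact ⟨w', hw'2, congrArg U.ι hw'1⟩
    have hpre : _root_.IsPreconnected Ps := by
      refine (U.ι.isEmbedding.comp c'.isEmbedding).isInducing.isPreconnected_image.1 ?_
      show _root_.IsPreconnected ((fun w' => U.ι (c' w')) '' Ps)
      rw [himg]
      exact isPreconnected_connectedComponentIn
    have hsub := hpre.subset_isClopen (t := Set.range d) ⟨d.isClosedEmbedding.isClosed_range, d.isOpenMap.isOpen_range⟩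
      ⟨d (eY.left s), ?_, ⟨_, rfl⟩⟩
    · exact hsub (show (p' ≫ Y.hom) w = s from rfl)
    · show (d ≫ p' ≫ Y.hom) (eY.left s) = s
      rw [reassoc_of% hdp, ← Scheme.Hom.comp_apply, heY]
      rfl⟩
  haveI : IsOpenImmersion d := IsOpenImmersion.of_flat_of_mono d
  haveI : IsIso d := (isIso_iff_isOpenImmersion_and_surjective d).2 ⟨inferInstance, inferInstance⟩
  haveI : IsIso p' := by
    have : IsIso (d ≫ p') := by rw [hdp]; infer_instance
    exact IsIso.of_isIso_comp_left d p'
  haveI := geometricallyConnected_tensor Y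
  haveI : IsIso p := isIso_of_isIso_pullback p (Y ⊗ Y).hom k.left p' c' (IsPullback.of_hasPullback p k.left)
    fun s => ⟨eY.left s, by rw [← Scheme.Hom.comp_apply, Over.w k, ← Scheme.Hom.comp_apply, heY]; rfl⟩
  have hsndp : inv p ≫ U.ι ≫ pr = 𝟙 _ := IsIso.inv_hom_id p
  have hM : (inv p ≫ U.ι ≫ pullback.fst f.left M) ≫ f.left = M := by
    simp only [Category.assoc, pullback.condition]
    simpa only [Category.assoc, Category.id_comp] using congrArg (· ≫ M) hsndp
  let m : Y ⊗ Y ⟶ Y := Over.homMk (inv p ≫ U.ι ≫ pullback.fst f.left M) (by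
    conv_lhs => rw [← Over.w f, ← Category.assoc, hM]
    exact Over.w _)
  refine ⟨m, Over.OverMorphism.ext hM, Over.OverMorphism.ext ?_⟩
  show k.left ≫ inv p ≫ U.ι ≫ pullback.fst f.left M = 𝟙 _
  rw [← hδ'p, Category.assoc, IsIso.hom_inv_id_assoc, reassoc_of% hδ', pullback.lift_fst]

end Groth.EtaleCoverGrp
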